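import Mathlib

/-!
Summability and non-vanishing of Euler products over effective cycles.
-/

set_option autoImplicit false

namespace Groth.Agent.ArithZeta

open Filter Topology

variable {P : Type*} {K : Type*} [NormedField K] [CompleteSpace K]

/-- The weight of a cycle. -/
noncomputable def weight (t : P → K) (α : P →₀ ℕ) : K :=
  α.prod fun x m => t x ^ m

theorem weight_add (t : P → K) (α β : P →₀ ℕ) : weight t (α + β) = weight t α * weight t β := by
  classical
  exact Finsupp.prod_add_index' (fun x => pow_zero (t x)) fun x m n => pow_add (t x) m n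

theorem weight_single (t : P → K) (x : P) (m : ℕ) : weight t (Finsupp.single x m) = t x ^ m :=
  Finsupp.prod_single_index (pow_zero (t x))

theorem norm_weight (t : P → K) (α : P →₀ ℕ) : ‖weight t α‖ = weight (fun x => ‖t x‖) α := by
  rw [weight, weight, Finsupp.prod, Finsupp.prod, norm_prod]
  simp [norm_pow]

/-- The finite Euler product. -/
theorem hasSum_weight_finset [DecidableEq P] (t : P → K) (ht : ∀ x, ‖t x‖ < 1) (S : Finset P) :
    (Summable fun α : {α : P →₀ ℕ // α.support ⊆ S} => ‖weight t α.1‖) ∧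
      HasSum (fun α : {α : P →₀ ℕ // α.support ⊆ S} => weight t α.1) (∏ x ∈ S, (1 - t x)⁻¹) := by
  induction S using Finset.induction_on with
  | empty =>
    have : Unique {α : P →₀ ℕ // α.support ⊆ (∅ : Finset P)} :=
      { default := ⟨0, by simp⟩
        uniq := fun a => Subtype.ext (Finsupp.support_eq_empty.1 (Finset.subset_empty.1 a.2)) }
    refine ⟨(hasSum_fintype _).summable, ?_⟩
    have h := hasSum_fintype (fun α : {α : P →₀ ℕ // α.support ⊆ (∅ : Finset P)} => weight t α.1)
    rw [Fintype.sum_unique] at h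
    rw [Finset.prod_empty]
    convert h
    simp [weight, show ((default : {α : P →₀ ℕ // α.support ⊆ (∅ : Finset P)}).1) = 0 from
      Finsupp.support_eq_empty.1 (Finset.subset_empty.1 (default : {α : P →₀ ℕ // α.support ⊆ (∅ : Finset P)}).2)]
  | insert a S ha ih =>
    let e : {α : P →₀ ℕ // α.support ⊆ insert a S} ≃ ℕ × {α : P →₀ ℕ // α.support ⊆ S} :=
      { toFun := fun α => (α.1 a, ⟨α.1.erase a, by
          rw [Finsupp.support_erase]
          intro y hy
          exact (Finset.mem_insert.1 (α.2 (Finset.mem_of_mem_erase hy))).resolve_left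
            (Finset.ne_of_mem_erase hy)⟩)
        invFun := fun p => ⟨Finsupp.single a p.1 + p.2.1, fun y hy => by
          rcases Finset.mem_union.1 (Finsupp.support_add hy) with h | h
          · exact Finset.mem_insert.2 (Or.inl (Finset.mem_singleton.1 (Finsupp.support_single_subset h)))
          · exact Finset.mem_insert_of_mem (p.2.2 h)⟩
        left_inv := fun α => Subtype.ext (Finsupp.single_add_erase a α.1)
        right_inv := fun p => by
          have h0 : p.2.1 a = 0 := Finsupp.notMem_support_iff.1 fun h => ha (p.2.2 h)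
          refine Prod.ext (by simp [h0]) (Subtype.ext ?_)
          show Finsupp.erase a (Finsupp.single a p.1 + p.2.1) = p.2.1
          rw [Finsupp.erase_add, Finsupp.erase_single, zero_add,
            Finsupp.erase_of_notMem_support (Finsupp.notMem_support_iff.2 h0)] }
    have hw : (fun α : {α : P →₀ ℕ // α.support ⊆ insert a S} => weight t α.1) =
        (fun p : ℕ × {α : P →₀ ℕ // α.support ⊆ S} => t a ^ p.1 * weight t p.2.1) ∘ e := by
      funext α
      show weight t α.1 = t a ^ (α.1 a) * weight t (α.1.erase a)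
      rw [← weight_single, ← weight_add, Finsupp.single_add_erase]
    have h1 : Summable fun n : ℕ => ‖t a ^ n‖ := by
      simp_rw [norm_pow]
      exact summable_geometric_of_lt_one (norm_nonneg _) (ht a)
    have hn : Summable fun p : ℕ × {α : P →₀ ℕ // α.support ⊆ S} => ‖t a ^ p.1 * weight t p.2.1‖ :=
      Summable.mul_norm (f := fun n : ℕ => t a ^ n) (g := fun α : {α : P →₀ ℕ // α.support ⊆ S} => weight t α.1) h1 ih.1
    refine ⟨?_, ?_⟩
    · exact ((Equiv.summable_iff e).2 hn).congr fun α => (congrArg norm (congrFun hw α)).symm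
    · rw [hw, Equiv.hasSum_iff, Finset.prod_insert ha]
      have h2 : HasSum (fun n : ℕ => t a ^ n) (1 - t a)⁻¹ := hasSum_geometric_of_norm_lt_one (ht a)
      have h3 : Summable fun p : ℕ × {α : P →₀ ℕ // α.support ⊆ S} => t a ^ p.1 * weight t p.2.1 :=
        hn.of_norm
      exact h2.mul (f := fun n : ℕ => t a ^ n)
        (g := fun α : {α : P →₀ ℕ // α.support ⊆ S} => weight t α.1) ih.2 h3

theorem inv_one_sub_le {θ x : ℝ} (hθ : θ < 1) (hx0 : 0 ≤ x) (hx : x ≤ θ) :
    (1 - x)⁻¹ ≤ Real.exp (x / (1 - θ)) := by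
  have h0 : 1 - x ≠ 0 := by linarith
  have h : (1 - x)⁻¹ = 1 + x / (1 - x) := by rw [eq_comm, one_add_div h0, sub_add_cancel, one_div]
  rw [h, add_comm]
  refine le_trans ?_ (Real.add_one_le_exp _)
  gcongr

/-- Absolute convergence of the sum over cycles. -/
theorem summable_weight (t : P → K) {θ : ℝ} (hθ : θ < 1) (ht : ∀ x, ‖t x‖ ≤ θ)
    (hs : Summable fun x => ‖t x‖) : Summable fun α : P →₀ ℕ => ‖weight t α‖ := by
  classical
  refine summable_of_sum_le (c := Real.exp ((∑' x, ‖t x‖) / (1 - θ))) (fun α => norm_nonneg _)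
    fun F => ?_
  let S := F.biUnion Finsupp.support
  have h := hasSum_weight_finset (K := ℝ) (fun x => ‖t x‖) (fun x => by
    rw [Real.norm_of_nonneg (norm_nonneg _)]; exact (ht x).trans_lt hθ) S
  have hsub : ∀ α ∈ F, α.support ⊆ S := fun α hα => Finset.subset_biUnion_of_mem _ hα
  calc ∑ α ∈ F, ‖weight t α‖
      = ∑ α ∈ F.subtype (fun α => α.support ⊆ S), weight (fun x => ‖t x‖) α.1 := by
        rw [Finset.sum_subtype_of_mem (fun α => weight (fun x => ‖t x‖) α) hsub]
        exact Finset.sum_congr rfl fun α _ => norm_weight t α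
    _ ≤ ∏ x ∈ S, (1 - ‖t x‖)⁻¹ := sum_le_hasSum _ (fun α _ => by
        rw [← norm_weight]; exact norm_nonneg _) h.2
    _ ≤ ∏ x ∈ S, Real.exp (‖t x‖ / (1 - θ)) := Finset.prod_le_prod
        (fun x _ => inv_nonneg.2 (by linarith [ht x]))
        fun x _ => inv_one_sub_le hθ (norm_nonneg _) (ht x)
    _ ≤ _ := by
        rw [← Real.exp_sum, ← Finset.sum_div]
        exact Real.exp_le_exp.2 (div_le_div_of_nonneg_right
          (hs.sum_le_tsum _ fun x _ => norm_nonneg _) (by linarith))

/-- Non-vanishing of the sum over cycles. -/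
theorem tsum_weight_ne_zero (t : P → K) {θ : ℝ} (hθ : θ < 1) (ht : ∀ x, ‖t x‖ ≤ θ)
    (hs : Summable fun x => ‖t x‖) : ∑' α : P →₀ ℕ, weight t α ≠ 0 := by
  classical
  have hlim : Tendsto (fun S : Finset P => ∏ x ∈ S, (1 - t x)⁻¹) atTop
      (𝓝 (∑' α : P →₀ ℕ, weight t α)) := by
    have heq : ∀ S : Finset P, ∏ x ∈ S, (1 - t x)⁻¹ =
        ∑' α : P →₀ ℕ, Set.indicator {α | α.support ⊆ S} (weight t) α := fun S => by
      rw [← (hasSum_weight_finset t (fun x => (ht x).trans_lt hθ) S).2.tsum_eq]
      exact tsum_subtype {α : P →₀ ℕ | α.support ⊆ S} (weight t)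
    simp_rw [heq]
    refine tendsto_tsum_of_dominated_convergence (summable_weight t hθ ht hs) (fun α => ?_)
      (Eventually.of_forall fun S α => norm_indicator_le_norm_self _ _)
    refine tendsto_const_nhds.congr' ?_
    filter_upwards [eventually_ge_atTop α.support] with S hS
    rw [Set.indicator_of_mem (show α ∈ {α : P →₀ ℕ | α.support ⊆ S} from hS)]
  have hle : Real.exp (-∑' x, ‖t x‖) ≤ ‖∑' α : P →₀ ℕ, weight t α‖ := by
    refine le_of_tendsto_of_tendsto' tendsto_const_nhds hlim.norm fun S => ?_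
    rw [norm_prod, Real.exp_neg]
    simp only [norm_inv]
    rw [Finset.prod_inv_distrib]
    refine inv_anti₀ (Finset.prod_pos fun x _ => norm_pos_iff.2 fun h => ?_) ?_
    · have := (ht x).trans_lt hθ
      rw [← sub_eq_zero.1 h, norm_one] at this
      exact lt_irrefl _ this
    calc ∏ x ∈ S, ‖1 - t x‖ ≤ ∏ x ∈ S, Real.exp ‖t x‖ :=
          Finset.prod_le_prod (fun x _ => norm_nonneg _) fun x _ =>
            ((norm_sub_le _ _).trans (by rw [norm_one, add_comm])).trans (Real.add_one_le_exp _)
      _ ≤ _ := by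
          rw [← Real.exp_sum]
          exact Real.exp_le_exp.2 (hs.sum_le_tsum _ fun x _ => norm_nonneg _)
  intro h
  rw [h, norm_zero] at hle
  exact absurd hle (Real.exp_pos _).not_ge

end Groth.Agent.ArithZeta
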