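import Groth.Prelude.Def_W4c1zetahwZeta
import Groth.Agent.ArithPts.Scheme
import Groth.Agent.ArithZeta.Euler

/-!
Norms of closed points of arithmetic schemes and absolute convergence of the zeta series.
-/

set_option autoImplicit false

namespace Groth.Agent.ArithZeta

universe u

open CategoryTheory AlgebraicGeometry

/-- A field of finite type over `ℤ` is finite. -/
theorem finite_of_finiteType_int (F : Type u) [Field F] (φ : ℤ →+* F) (hφ : φ.FiniteType) :
    Finite F := by
  rw [Subsingleton.elim φ (algebraMap ℤ F)] at hφ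
  have : Algebra.FiniteType ℤ F := RingHom.finiteType_algebraMap.1 hφ
  have := ArithPts.isJacobsonRing_int
  have : Module.Finite ℤ F := finite_of_finite_type_of_isJacobsonRing ℤ F
  obtain ⟨n, hn⟩ : ∃ n : ℤ, n ≠ 0 ∧ (n : F) = 0 := by
    by_contra h
    push Not at h
    have hinj : Function.Injective (algebraMap ℤ F) := (injective_iff_map_eq_zero _).2 fun z hz => by
      by_contra hz0
      exact h z hz0 (by simpa using hz)
    exact Int.not_isField (isField_of_isIntegral_of_isField hinj (Field.toIsField F))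
  refine Module.finite_of_fg_torsion F fun x => ⟨⟨n, mem_nonZeroDivisors_of_ne_zero hn.1⟩, ?_⟩
  show (n : ℤ) • x = 0
  rw [zsmul_eq_mul, hn.2, zero_mul]

variable {X : Scheme.{u}} (f : X ⟶ Spec (CommRingCat.of (ULift.{u} ℤ))) [LocallyOfFiniteType f]

include f in
/-- The residue field at a closed point of an arithmetic scheme is finite. -/
theorem finite_residueField (x : X) (hx : IsClosed ({x} : Set X)) : Finite (X.residueField x) := by
  obtain ⟨U, hU, hxU, -⟩ := exists_isAffineOpen_mem_and_subset (show x ∈ (⊤ : X.Opens) from trivial)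
  have h1 := HasRingHomProperty.appLE (P := @LocallyOfFiniteType) f ‹_› ⟨⊤, isAffineOpen_top _⟩ ⟨U, hU⟩ le_top
  have h2 : ((Scheme.ΓSpecIso (CommRingCat.of (ULift.{u} ℤ))).inv.hom.comp
      (ULift.ringEquiv.{0, u} (R := ℤ)).symm.toRingHom).FiniteType :=
    RingHom.FiniteType.of_surjective _
      (((Scheme.ΓSpecIso (CommRingCat.of (ULift.{u} ℤ))).commRingCatIsoToRingEquiv.symm.surjective).comp
        (ULift.ringEquiv.{0, u} (R := ℤ)).symm.surjective)
  let P := (hU.primeIdealOf ⟨x, hxU⟩).asIdeal
  have hP : P.IsMaximal := hU.primeIdealOf_isMaximal_of_isClosed ⟨x, hxU⟩ hx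
  let _ : Algebra Γ(X, U) (X.presheaf.stalk x) :=
    TopCat.Presheaf.algebra_section_stalk X.presheaf ⟨x, hxU⟩
  have hloc : IsLocalization.AtPrime (X.presheaf.stalk x) P := hU.isLocalization_stalk ⟨x, hxU⟩
  show Finite (IsLocalRing.ResidueField (X.presheaf.stalk x))
  let ev : Γ(X, U) →+* IsLocalRing.ResidueField (X.presheaf.stalk x) :=
    (IsLocalRing.residue (X.presheaf.stalk x)).comp (algebraMap Γ(X, U) (X.presheaf.stalk x))
  have hev : Function.Surjective ev := by
    intro v
    obtain ⟨w, rfl⟩ := IsLocalRing.residue_surjective v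
    obtain ⟨⟨b, s⟩, hbs⟩ := IsLocalization.surj P.primeCompl w
    obtain ⟨t, i, hi, hti⟩ := hP.exists_inv (x := (s : Γ(X, U))) s.2
    refine ⟨b * t, ?_⟩
    have hi0 : ev i = 0 := (IsLocalRing.residue_eq_zero_iff _).2
      ((IsLocalization.AtPrime.to_map_mem_maximal_iff _ P i).2 hi)
    have h1 : ev t * ev s = 1 := by
      have := congrArg ev hti
      rwa [map_add, map_mul, hi0, add_zero, map_one] at this
    have h2 : IsLocalRing.residue _ w * ev s = ev b := by
      show _ * IsLocalRing.residue _ _ = IsLocalRing.residue _ _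
      rw [← map_mul, hbs]
    rw [map_mul, ← h2, mul_assoc, mul_comm (ev s), h1, mul_one]
  have h3 := (RingHom.FiniteType.of_surjective ev hev).comp (h1.comp h2)
  exact finite_of_finiteType_int _ _ h3

/-- The norm of a point. -/
noncomputable def nrm (X : Scheme.{u}) (x : X) : ℕ := Nat.card (X.residueField x)

/-- Closed points with a given residue cardinality inject into field valued points. -/
theorem natCard_closed_le (F : Type u) [Field F] [Finite F]
    (hfin : Finite (Spec (CommRingCat.of F) ⟶ X)) :
    Finite {x : X // IsClosed ({x} : Set X) ∧ nrm X x = Nat.card F} ∧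
    Nat.card {x : X // IsClosed ({x} : Set X) ∧ nrm X x = Nat.card F} ≤
      Nat.card (Spec (CommRingCat.of F) ⟶ X) := by
  classical
  have he : ∀ x : {x : X // IsClosed ({x} : Set X) ∧ nrm X x = Nat.card F},
      Nonempty (X.residueField x.1 ≃+* F) := fun x => by
    have : Finite (X.residueField x.1) := Nat.finite_of_card_ne_zero (by
      show nrm X x.1 ≠ 0
      rw [x.2.2]; exact Nat.card_pos.ne')
    let := Fintype.ofFinite (X.residueField x.1)
    let := Fintype.ofFinite F
    exact ⟨FiniteField.ringEquivOfCardEq (by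
      rw [← Nat.card_eq_fintype_card, ← Nat.card_eq_fintype_card]; exact x.2.2)⟩
  let φ : {x : X // IsClosed ({x} : Set X) ∧ nrm X x = Nat.card F} →
      (Spec (CommRingCat.of F) ⟶ X) :=
    fun x => Spec.map (CommRingCat.ofHom (he x).some.toRingHom) ≫ X.fromSpecResidueField x.1
  have hφ : Function.Injective φ := fun x y h => by
    have hx : ∀ z, (φ z).base (IsLocalRing.closedPoint F) = z.1 := fun z => by
      show (X.fromSpecResidueField z.1).base _ = z.1
      exact Scheme.fromSpecResidueField_apply _ _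
    exact Subtype.ext ((hx x).symm.trans ((congrArg
      (fun g : Spec (CommRingCat.of F) ⟶ X => g.base (IsLocalRing.closedPoint F)) h).trans (hx y)))
  exact ⟨Finite.of_injective φ hφ, Nat.card_le_card_of_injective φ hφ⟩

include f in
/-- Finitely many points with values in a finite field. -/
theorem finite_points [QuasiCompact f] (F : Type u) [Field F] [Finite F] :
    Finite (Spec (CommRingCat.of F) ⟶ X) := by
  classical
  have : CompactSpace X := QuasiCompact.compactSpace_of_compactSpace f
  let 𝒰 := X.affineCover.finiteSubcover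
  let U : 𝒰.I₀ → X.Opens := fun i => (𝒰.f i).opensRange
  have hU : ∀ i, IsAffineOpen (U i) := fun i => isAffineOpen_opensRange _
  have hfin : ∀ i, Finite (Γ(X, U i) →+* F) := fun i => by
    have h1 := HasRingHomProperty.appLE (P := @LocallyOfFiniteType) f ‹_› ⟨⊤, isAffineOpen_top _⟩ ⟨U i, hU i⟩ le_top
    have h2 : ((Scheme.ΓSpecIso (CommRingCat.of (ULift.{u} ℤ))).inv.hom.comp
        (ULift.ringEquiv.{0, u} (R := ℤ)).symm.toRingHom).FiniteType :=
      RingHom.FiniteType.of_surjective _
        (((Scheme.ΓSpecIso (CommRingCat.of (ULift.{u} ℤ))).commRingCatIsoToRingEquiv.symm.surjective).comp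
          (ULift.ringEquiv.{0, u} (R := ℤ)).symm.surjective)
    have h3 := h1.comp h2
    rw [Subsingleton.elim (((f.appLE ⊤ (U i) le_top).hom).comp _) (algebraMap ℤ Γ(X, U i))] at h3
    have : Algebra.FiniteType ℤ Γ(X, U i) := RingHom.finiteType_algebraMap.1 h3
    exact ArithPts.finite_hom F
  let pt : PrimeSpectrum F := ⟨⊥, Ideal.isPrime_bot⟩
  have hex : ∀ g : Spec (CommRingCat.of F) ⟶ X, ∃ x : Σ i, (Γ(X, U i) →+* F),
      g = Spec.map (CommRingCat.ofHom x.2) ≫ (hU x.1).fromSpec := fun g => by
    obtain ⟨i, hi⟩ : ∃ i, g.base pt ∈ U i := ⟨_, 𝒰.covers _⟩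
    have hsub : Set.range g.base ⊆ Set.range (hU i).fromSpec.base := by
      rintro _ ⟨z, rfl⟩
      rw [(hU i).range_fromSpec, Subsingleton.elim z pt]
      exact hi
    refine ⟨⟨i, (Spec.preimage (IsOpenImmersion.lift (hU i).fromSpec g hsub)).hom⟩, ?_⟩
    show g = Spec.map (Spec.preimage _) ≫ _
    rw [Spec.map_preimage, IsOpenImmersion.lift_fac]
  choose φ hφ using hex
  exact Finite.of_injective φ fun g g' he => by rw [hφ g, hφ g', he]

end Groth.Agent.ArithZeta
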