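import Groth.Agent.ArithZeta.Sum
import Mathlib.NumberTheory.LSeries.Convergence

/-!
The zeta series as a sum over effective cycles.
-/

set_option autoImplicit false

namespace Groth.Agent.ArithZeta

universe u

open CategoryTheory AlgebraicGeometry

variable {X : Scheme.{u}} (f : X ⟶ Spec (CommRingCat.of (ULift.{u} ℤ))) [LocallyOfFiniteType f]
  [QuasiCompact f]

/-- The local factor of a point, zero for non-closed points. -/
noncomputable def factor (X : Scheme.{u}) (s : ℂ) : X → ℂ := fun x => by
  classical
  exact if IsClosed ({x} : Set X) then (nrm X x : ℂ) ^ (-s) else 0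

theorem natCast_prod_cpow {ι : Type*} (S : Finset ι) (N : ι → ℕ) (e : ι → ℕ) (s : ℂ) :
    ((∏ i ∈ S, N i ^ e i : ℕ) : ℂ) ^ s = ∏ i ∈ S, ((N i : ℂ) ^ s) ^ e i := by
  classical
  induction S using Finset.induction_on with
  | empty => simp
  | insert a S ha ih =>
    rw [Finset.prod_insert ha, Finset.prod_insert ha, Nat.cast_mul, Complex.natCast_mul_natCast_cpow,
      ih]
    congr 1
    induction e a with
    | zero => simp
    | succ k hk => rw [pow_succ, Nat.cast_mul, Complex.natCast_mul_natCast_cpow, hk, pow_succ]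

include f in
theorem one_lt_nrm (x : X) (hx : IsClosed ({x} : Set X)) : 1 < nrm X x := by
  have := finite_residueField f x hx
  exact Finite.one_lt_card

include f in
/-- The zeta series converges to the sum over cycles, which does not vanish. -/
theorem exists_hasSum (r : ℕ) (hr : topologicalKrullDim X ≤ r) (s : ℂ) (hs : (r : ℝ) < s.re) :
    ∃ L : ℂ, L ≠ 0 ∧ LSeriesHasSum (Zeta.arithCoeff X) s L := by
  classical
  set t := factor X s with htdef
  set θ : ℝ := (2 : ℝ) ^ (-s.re) with hθdef
  have hs0 : 0 < s.re := lt_of_le_of_lt (Nat.cast_nonneg r) hs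
  have hθ1 : θ < 1 := Real.rpow_lt_one_of_one_lt_of_neg one_lt_two (by linarith)
  have hθ0 : 0 ≤ θ := Real.rpow_nonneg two_pos.le _
  have hcl : ∀ x, IsClosed ({x} : Set X) → ‖t x‖ = (nrm X x : ℝ) ^ (-s.re) := fun x hx => by
    show ‖factor X s x‖ = _
    simp only [factor, if_pos hx]
    rw [Complex.norm_natCast_cpow_of_pos (lt_trans zero_lt_one (one_lt_nrm f x hx)), Complex.neg_re]
  have hncl : ∀ x, ¬ IsClosed ({x} : Set X) → t x = 0 := fun x hx => if_neg hx
  have ht : ∀ x, ‖t x‖ ≤ θ := fun x => by
    by_cases hx : IsClosed ({x} : Set X)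
    · rw [hcl x hx]
      exact Real.rpow_le_rpow_of_nonpos two_pos (by exact_mod_cast one_lt_nrm f x hx) (by linarith)
    · rw [hncl x hx, norm_zero]; exact hθ0
  have hsum : Summable fun x => ‖t x‖ := by
    have h := summable_norm_points f r hr s.re hs
    have h2 : Summable fun x : {x : X // IsClosed ({x} : Set X)} => ‖t x.1‖ :=
      h.congr fun x => (hcl x.1 x.2).symm
    refine (Function.Injective.summable_iff Subtype.val_injective (fun x hx => ?_)).1 h2
    rw [hncl x fun h => hx ⟨⟨x, h⟩, rfl⟩, norm_zero]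
  have hw := summable_weight t hθ1 ht hsum
  refine ⟨∑' α : X →₀ ℕ, weight t α, tsum_weight_ne_zero t hθ1 ht hsum, ?_⟩
  let Q : (X →₀ ℕ) → Prop := fun α => ∀ x ∈ α.support, IsClosed ({x} : Set X)
  let N : (X →₀ ℕ) → ℕ := fun α =>
    if Q α then α.prod (fun x m => Nat.card (X.residueField x) ^ m) else 0
  have hwN : ∀ α, weight t α = if N α = 0 then 0 else (N α : ℂ) ^ (-s) := fun α => by
    by_cases hα : Q α
    · have hne : N α ≠ 0 := by
        show (if Q α then _ else _) ≠ 0
        rw [if_pos hα]
        exact Finset.prod_ne_zero_iff.2 fun x hx =>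
          pow_ne_zero _ (zero_lt_one.trans (one_lt_nrm f x (hα x hx))).ne'
      rw [if_neg hne]
      show _ = (((if Q α then _ else _) : ℕ) : ℂ) ^ (-s)
      rw [if_pos hα, Finsupp.prod, natCast_prod_cpow]
      refine Finset.prod_congr rfl fun x hx => ?_
      show t x ^ _ = _
      rw [htdef]
      simp only [factor, if_pos (hα x hx), nrm]
    · have h0 : N α = 0 := if_neg hα
      rw [if_pos h0]
      simp only [Q, not_forall] at hα
      obtain ⟨x, hx, hxc⟩ := hα
      exact Finset.prod_eq_zero hx (by
        show t x ^ _ = 0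
        rw [hncl x hxc, zero_pow (Finsupp.mem_support_iff.1 hx)])
  have hfib : ∀ n, HasSum (fun z : {α // N α = n} => weight t z.1) (LSeries.term (Zeta.arithCoeff X) s n) := by
    intro n
    rcases eq_or_ne n 0 with rfl | hn
    · rw [LSeries.term_zero]
      refine hasSum_zero.congr_fun fun z => ?_
      rw [hwN, if_pos z.2]
    have e : {α // N α = n} ≃ {α : X →₀ ℕ // (∀ x ∈ α.support, IsClosed ({x} : Set X)) ∧
        α.prod (fun x m => Nat.card (X.residueField x) ^ m) = n} :=
      Equiv.subtypeEquivRight fun α => by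
        show (if Q α then _ else _) = n ↔ _
        by_cases hα : Q α
        · rw [if_pos hα]; exact ⟨fun h => ⟨hα, h⟩, fun h => h.2⟩
        · rw [if_neg hα]; exact ⟨fun h => absurd h.symm hn, fun h => absurd h.1 hα⟩
    have hn0 : (n : ℂ) ^ (-s) ≠ 0 := by
      rw [Ne, Complex.cpow_eq_zero_iff]
      exact fun h => hn (by exact_mod_cast h.1)
    have hconst : (fun z : {α // N α = n} => weight t z.1) = fun _ => (n : ℂ) ^ (-s) := by
      funext z
      rw [hwN, z.2, if_neg hn]
    have hsz : Summable fun z : {α // N α = n} => weight t z.1 :=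
      hw.of_norm.comp_injective Subtype.val_injective
    rw [hconst] at hsz ⊢
    have : Finite {α // N α = n} := by
      by_contra h
      rw [not_finite_iff_infinite] at h
      exact hn0 ((summable_const_iff _).1 hsz)
    let := Fintype.ofFinite {α // N α = n}
    have h := hasSum_fintype (fun _ : {α // N α = n} => (n : ℂ) ^ (-s))
    rw [Finset.sum_const, Finset.card_univ, ← Nat.card_eq_fintype_card, Nat.card_congr e,
      nsmul_eq_mul] at h
    rw [LSeries.term_of_ne_zero hn, div_eq_mul_inv, ← Complex.cpow_neg]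
    exact h
  exact ((Equiv.sigmaFiberEquiv N).hasSum_iff.2 hw.of_norm.hasSum).sigma hfib

end Groth.Agent.ArithZeta
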