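import Groth.Agent.ArithZeta.Points

/-!
The zeta series of an arithmetic scheme as a sum over effective cycles.
-/

set_option autoImplicit false

namespace Groth.Agent.ArithZeta

universe u

open CategoryTheory AlgebraicGeometry

variable {X : Scheme.{u}} (f : X ⟶ Spec (CommRingCat.of (ULift.{u} ℤ))) [LocallyOfFiniteType f]
  [QuasiCompact f]

include f in
/-- The norm of a closed point is a prime power. -/
theorem exists_norm_eq (x : X) (hx : IsClosed ({x} : Set X)) :
    ∃ p : Nat.Primes, ∃ m : ℕ, nrm X x = (p : ℕ) ^ (m + 1) := by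
  have := finite_residueField f x hx
  let := Fintype.ofFinite (X.residueField x)
  obtain ⟨p, hp⟩ := CharP.exists (X.residueField x)
  obtain ⟨n, hpp, hn⟩ := FiniteField.card (X.residueField x) p
  refine ⟨⟨p, hpp⟩, (n : ℕ) - 1, ?_⟩
  rw [Nat.sub_add_cancel (show 1 ≤ (n : ℕ) from n.2), nrm, Nat.card_eq_fintype_card]
  exact hn

include f in
/-- The real series over closed points converges to the right of the dimension. -/
theorem summable_norm_points (r : ℕ) (hr : topologicalKrullDim X ≤ r) (σ : ℝ) (hσ : (r : ℝ) < σ) :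
    Summable fun x : {x : X // IsClosed ({x} : Set X)} => (nrm X x.1 : ℝ) ^ (-σ) := by
  classical
  obtain ⟨c, p₀, hc, hbound⟩ := ArithPts.exists_card_points_le f r hr
  set ee : ℝ := (r : ℝ) - 1 - σ with hee
  set θ : ℝ := (2 : ℝ) ^ ((r : ℝ) - σ) with hθ
  have hθ0 : 0 < θ := Real.rpow_pos_of_pos two_pos _
  have hθ1 : θ < 1 := Real.rpow_lt_one_of_one_lt_of_neg one_lt_two (by linarith)
  let key : {x : X // IsClosed ({x} : Set X)} → Nat.Primes × ℕ := fun x =>
    ((exists_norm_eq f x.1 x.2).choose, (exists_norm_eq f x.1 x.2).choose_spec.choose)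
  have hkey : ∀ x, nrm X x.1 = ((key x).1 : ℕ) ^ ((key x).2 + 1) := fun x =>
    (exists_norm_eq f x.1 x.2).choose_spec.choose_spec
  let Kp : Nat.Primes → ℝ := fun p => (p : ℝ) ^ ee + if (p : ℕ) < p₀ then 1 else 0
  have hKp0 : ∀ p, 0 ≤ Kp p := fun p =>
    add_nonneg (Real.rpow_nonneg (Nat.cast_nonneg _) _) (by split_ifs <;> norm_num)
  have hfinp : {p : Nat.Primes | (p : ℕ) < p₀}.Finite :=
    (Set.finite_Iio p₀).preimage Subtype.val_injective.injOn
  have hKp : Summable Kp := by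
    refine Summable.add (Nat.Primes.summable_rpow.2 (by linarith)) ?_
    refine summable_of_hasFiniteSupport (hfinp.subset fun p hp => ?_)
    by_contra h
    exact hp (if_neg h)
  let G : Nat.Primes × ℕ → ℝ := fun q => c * Kp q.1 * θ ^ q.2
  have hG : Summable G := by
    have := (hKp.mul_left c).mul_of_nonneg (summable_geometric_of_lt_one hθ0.le hθ1)
      (fun p => mul_nonneg hc.le (hKp0 p)) (fun n => pow_nonneg hθ0.le n)
    exact this
  -- the fibres over a prime power
  have hfib : ∀ q : Nat.Primes × ℕ, Finite {x // key x = q} ∧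
      (Nat.card {x // key x = q} : ℝ) * ((((q.1 : ℕ) ^ (q.2 + 1) : ℕ) : ℝ) ^ (-σ)) ≤ G q := by
    rintro ⟨p, m⟩
    rcases isEmpty_or_nonempty {x // key x = (p, m)} with h | ⟨⟨x0, hx0⟩⟩
    · refine ⟨inferInstance, ?_⟩
      rw [Nat.card_of_isEmpty, Nat.cast_zero, zero_mul]
      exact mul_nonneg (mul_nonneg hc.le (hKp0 p)) (pow_nonneg hθ0.le m)
    have := finite_residueField f x0.1 x0.2
    let F : Type u := X.residueField x0.1
    have hF : Nat.card F = (p : ℕ) ^ (m + 1) := by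
      have := hkey x0
      rw [hx0] at this
      exact this
    have hpts := finite_points f F
    obtain ⟨hfinS, hcard⟩ := natCard_closed_le F hpts
    let ι : {x // key x = (p, m)} → {x : X // IsClosed ({x} : Set X) ∧ nrm X x = Nat.card F} :=
      fun x => ⟨x.1.1, x.1.2, by rw [hF, hkey x.1, x.2]⟩
    have hι : Function.Injective ι := fun a b h =>
      Subtype.ext (Subtype.ext (congrArg (fun z => z.1) h))
    refine ⟨Finite.of_injective ι hι, ?_⟩
    have hle : (Nat.card {x // key x = (p, m)} : ℝ) ≤ (Nat.card (Spec (CommRingCat.of F) ⟶ X) : ℝ) :=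
      by exact_mod_cast (Nat.card_le_card_of_injective ι hι).trans hcard
    obtain ⟨hlarge, hsmall⟩ := hbound p (m + 1) p.2 (Nat.le_add_left 1 m) F hF
    have hp0 : (0 : ℝ) < (p : ℝ) := Nat.cast_pos.2 p.2.pos
    have hp1 : (1 : ℝ) ≤ (p : ℝ) := by exact_mod_cast p.2.one_lt.le
    have hpow : ((((p : ℕ) ^ (m + 1) : ℕ) : ℝ)) ^ (-σ) = (p : ℝ) ^ (((m + 1 : ℕ) : ℝ) * (-σ)) := by
      rw [Nat.cast_pow, ← Real.rpow_natCast, ← Real.rpow_mul hp0.le]
    have hθle : ∀ e : ℝ, e ≤ (r : ℝ) - σ → (p : ℝ) ^ e ≤ θ := fun e he =>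
      (Real.rpow_le_rpow_of_exponent_le hp1 he).trans
        (Real.rpow_le_rpow_of_nonpos two_pos (by exact_mod_cast p.2.two_le) (by linarith))
    show _ ≤ c * Kp p * θ ^ m
    rw [hpow]
    refine (mul_le_mul_of_nonneg_right hle (Real.rpow_nonneg hp0.le _)).trans ?_
    by_cases hp : (p : ℕ) < p₀
    · refine (mul_le_mul_of_nonneg_right (hsmall hp) (Real.rpow_nonneg hp0.le _)).trans ?_
      rw [mul_assoc, ← Real.rpow_add hp0, ← mul_add, mul_comm ((m + 1 : ℕ) : ℝ),
        Real.rpow_mul hp0.le, Real.rpow_natCast, mul_assoc c]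
      refine mul_le_mul_of_nonneg_left ?_ hc.le
      rw [← sub_eq_add_neg, pow_succ']
      refine mul_le_mul ?_ (pow_le_pow_left₀ (Real.rpow_nonneg hp0.le _) (hθle _ le_rfl) m)
        (pow_nonneg (Real.rpow_nonneg hp0.le _) m) (hKp0 p)
      refine (hθle _ le_rfl).trans (hθ1.le.trans ?_)
      show 1 ≤ (p : ℝ) ^ ee + _
      rw [if_pos hp]
      linarith [Real.rpow_nonneg hp0.le ee]
    · refine (mul_le_mul_of_nonneg_right (hlarge (not_lt.1 hp)) (Real.rpow_nonneg hp0.le _)).trans ?_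
      rw [mul_assoc, ← Real.rpow_add hp0, ← mul_add, mul_comm ((m + 1 : ℕ) : ℝ),
        Real.rpow_mul hp0.le, Real.rpow_natCast, mul_assoc c]
      refine mul_le_mul_of_nonneg_left ?_ hc.le
      rw [← sub_eq_add_neg, pow_succ', ← hee]
      refine mul_le_mul ?_ (pow_le_pow_left₀ (Real.rpow_nonneg hp0.le _) (hθle ee (by linarith)) m)
        (pow_nonneg (Real.rpow_nonneg hp0.le _) m) (hKp0 p)
      show _ ≤ (p : ℝ) ^ ee + _
      rw [if_neg hp, add_zero]
  refine (Equiv.summable_iff (Equiv.sigmaFiberEquiv key)).1 ?_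
  refine (summable_sigma_of_nonneg fun z => Real.rpow_nonneg (Nat.cast_nonneg _) _).2 ⟨fun q => by have := (hfib q).1; exact Summable.of_finite, ?_⟩
  refine Summable.of_nonneg_of_le (fun q => tsum_nonneg fun z => Real.rpow_nonneg (Nat.cast_nonneg _) _)
    (fun q => ?_) hG
  have := (hfib q).1
  refine le_trans (le_of_eq ?_) (hfib q).2
  have hz : ∀ z : {x // key x = q}, (nrm X z.1.1 : ℝ) ^ (-σ) =
      (((q.1 : ℕ) ^ (q.2 + 1) : ℕ) : ℝ) ^ (-σ) := fun z => by rw [hkey z.1, z.2]
  simp only [Function.comp_apply, Equiv.sigmaFiberEquiv_apply]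
  rw [tsum_congr hz, tsum_const, nsmul_eq_mul]

end Groth.Agent.ArithZeta
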